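import Groth.Agent.DivPts.Cartier
import Mathlib.Algebra.BigOperators.Finsupp.Basic

/-!
# The divisorial part of a closed subscheme covered by integral effective Cartier divisors
-/

set_option autoImplicit false

noncomputable section

universe u v

open CategoryTheory AlgebraicGeometry Opposite TopologicalSpace Groth.Agent.QCohBase

namespace Groth.Agent.CartierSum

/-- Products of powers of pairwise incomparable principal primes are intersections of their
symbolic powers. -/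
theorem mem_prod_pow {R : Type u} [CommRing R] {ι : Type v} (P : ι → Ideal R) (n : ι → ℕ) (s : Finset ι)
    (hp : ∀ i ∈ s, (P i).IsPrime) (hgen : ∀ i ∈ s, ∃ f ∈ nonZeroDivisors R, P i = Ideal.span {f})
    (hinc : ∀ i ∈ s, ∀ j ∈ s, i ≠ j → ¬ P i ≤ P j)
    (g : R) (hg : ∀ i ∈ s, ∃ t, t ∉ P i ∧ t * g ∈ P i ^ n i) : g ∈ ∏ i ∈ s, P i ^ n i := by
  classical
  induction s using Finset.induction_on generalizing g with
  | empty => rw [Finset.prod_empty, Ideal.one_eq_top]; trivial
  | insert a s ha ih =>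
    obtain ⟨f, hf0, hf⟩ := hgen a (Finset.mem_insert_self a s)
    have := hp a (Finset.mem_insert_self a s)
    have hfP : f ∈ P a := hf ▸ Ideal.mem_span_singleton_self f
    have key : ∀ m : ℕ, ∀ g : R, (∃ t, t ∉ P a ∧ t * g ∈ P a ^ m) → ∃ g', g = f ^ m * g' := by
      intro m
      induction m with
      | zero => exact fun g _ => ⟨g, by simp⟩
      | succ m ihm =>
        rintro g ⟨t, ht, htg⟩
        obtain ⟨g', rfl⟩ := ihm g ⟨t, ht, Ideal.pow_le_pow_right (Nat.le_succ m) htg⟩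
        rw [hf, Ideal.span_singleton_pow, Ideal.mem_span_singleton'] at htg
        obtain ⟨c, hc⟩ := htg
        have h0 : t * g' - c * f = 0 := by
          refine (mem_nonZeroDivisors_iff_right.1 (pow_mem hf0 m)) _ ?_
          rw [sub_mul, mul_assoc c f, ← pow_succ', hc]
          ring
        have htg' : t * g' ∈ P a := by
          rw [sub_eq_zero.1 h0]; exact Ideal.mul_mem_left _ _ hfP
        obtain ⟨d, hd⟩ : ∃ d, d * f = g' := by
          rw [← Ideal.mem_span_singleton', ← hf]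
          exact (‹(P a).IsPrime›.mem_or_mem htg').resolve_left ht
        exact ⟨d, by rw [← hd, pow_succ]; ring⟩
    obtain ⟨g', rfl⟩ := key (n a) g (hg a (Finset.mem_insert_self a s))
    rw [Finset.prod_insert ha]
    refine Ideal.mul_mem_mul (Ideal.pow_mem_pow hfP _) ?_
    refine ih (fun i hi => hp i (Finset.mem_insert_of_mem hi)) (fun i hi => hgen i (Finset.mem_insert_of_mem hi))
      (fun i hi j hj => hinc i (Finset.mem_insert_of_mem hi) j (Finset.mem_insert_of_mem hj)) g' fun i hi => ?_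
    obtain ⟨t, ht, htg⟩ := hg i (Finset.mem_insert_of_mem hi)
    have := hp i (Finset.mem_insert_of_mem hi)
    refine ⟨t * f ^ n a, fun h => ?_, by rwa [mul_assoc]⟩
    rcases ‹(P i).IsPrime›.mem_or_mem h with h | h
    · exact ht h
    · refine hinc a (Finset.mem_insert_self a s) i (Finset.mem_insert_of_mem hi)
        (fun e => ha (e ▸ hi)) ?_
      rw [hf, Ideal.span_singleton_le_iff_mem]
      exact ‹(P i).IsPrime›.mem_of_pow_mem _ h

variable {X : Scheme.{u}}

/-- The stalk of an ideal sheaf does not depend on the affine neighbourhood. -/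
theorem map_germ_of_le (D : X.IdealSheafData) {U V : X.affineOpens} (h : V ≤ U) {x : X}
    (hx : x ∈ (V : X.Opens)) :
    (D.ideal U).map (X.presheaf.germ U.1 x (h hx)).hom = (D.ideal V).map (X.presheaf.germ V.1 x hx).hom := by
  have e := X.presheaf.germ_res (homOfLE (show V.1 ≤ U.1 from h)) x hx
  rw [← D.map_ideal h, Ideal.map_map, ← e]
  rfl

theorem map_germ_eq (D : X.IdealSheafData) (U V : X.affineOpens) {x : X}
    (hxU : x ∈ (U : X.Opens)) (hxV : x ∈ (V : X.Opens)) :
    (D.ideal U).map (X.presheaf.germ U.1 x hxU).hom = (D.ideal V).map (X.presheaf.germ V.1 x hxV).hom := by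
  obtain ⟨_, ⟨W, hW, rfl⟩, hxW, hWUV⟩ :=
    X.isBasis_affineOpens.exists_subset_of_mem_open (show x ∈ ((U.1 ⊓ V.1 : X.Opens) : Set X) from ⟨hxU, hxV⟩)
      (U.1 ⊓ V.1).isOpen
  exact (map_germ_of_le D (V := ⟨W, hW⟩) (fun y hy => (hWUV hy).1) hxW).trans
    (map_germ_of_le D (V := ⟨W, hW⟩) (fun y hy => (hWUV hy).2) hxW).symm

/-- Proper generisation strictly decreases the dimension of the local ring. -/
theorem dim_lt [IsLocallyNoetherian X] {x y : X} (h : y ⤳ x) (hne : y ≠ x) :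
    ringKrullDim (X.presheaf.stalk y) < ringKrullDim (X.presheaf.stalk x) := by
  obtain ⟨_, ⟨U, hU, rfl⟩, hx, -⟩ :=
    X.isBasis_affineOpens.exists_subset_of_mem_open (Set.mem_univ x) isOpen_univ
  have hy : y ∈ U := h.mem_open U.isOpen hx
  have : IsNoetherianRing Γ(X, U) := IsLocallyNoetherian.component_noetherian ⟨U, hU⟩
  rw [DivPts.ringKrullDim_stalk_eq_height ⟨U, hU⟩ hy, DivPts.ringKrullDim_stalk_eq_height ⟨U, hU⟩ hx]
  refine WithBot.coe_lt_coe.2 ?_
  have := (hU.primeIdealOf ⟨x, hx⟩).isPrime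
  have := (hU.primeIdealOf ⟨y, hy⟩).isPrime
  refine Ideal.height_strict_mono_of_isPrime_of_isPrime (lt_of_le_of_ne ((AssPts.specializes_iff hU x hx hy).1 h) ?_)
  intro e
  have := hU.fromSpec_primeIdealOf ⟨y, hy⟩
  rw [show hU.primeIdealOf ⟨y, hy⟩ = hU.primeIdealOf ⟨x, hx⟩ from PrimeSpectrum.ext e,
    hU.fromSpec_primeIdealOf ⟨x, hx⟩] at this
  exact hne this.symm

theorem dim_eq_zero_of_lt_one {x : X} (h : ringKrullDim (X.presheaf.stalk x) < 1) :
    ringKrullDim (X.presheaf.stalk x) = 0 := by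
  have h0 : 0 ≤ ringKrullDim (X.presheaf.stalk x) := ringKrullDim_nonneg_of_nontrivial
  revert h h0
  induction ringKrullDim (X.presheaf.stalk x) using WithBot.recBotCoe with
  | bot => simp
  | coe a =>
    intro h h0
    rw [WithBot.coe_lt_one] at h
    rw [WithBot.coe_eq_zero]
    exact Order.lt_one_iff.1 h

theorem le_one_of_not_two_le {d : WithBot ℕ∞} (h : ¬ (2 : WithBot ℕ∞) ≤ d) : d ≤ 1 := by
  induction d using WithBot.recBotCoe with
  | bot => exact bot_le
  | coe a =>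
    have h' : ¬ (2 : ℕ∞) ≤ a := fun h' => h ((WithBot.coe_le_coe.2 h' :))
    have : a ≤ 1 := by
      induction a using ENat.recTopCoe with
      | top => exact absurd le_top h'
      | coe a => norm_cast at h' ⊢; omega
    exact_mod_cast this

variable [IsNoetherian X] {I : Type u}

/-- A point of a closed set whose maximal points have codimension at least two has codimension at least two. -/
theorem two_le_of_mem (Z' : Set X)
    (hcodim : ∀ z ∈ Z', (∀ y ∈ Z', y ⤳ z → y = z) → (2 : WithBot ℕ∞) ≤ ringKrullDim (X.presheaf.stalk z))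
    {x : X} (hx : x ∈ Z') : ¬ ringKrullDim (X.presheaf.stalk x) ≤ 1 := by
  intro h1
  by_cases hmax : ∀ y ∈ Z', y ⤳ x → y = x
  · exact absurd ((hcodim x hx hmax).trans h1) (by decide)
  · push Not at hmax
    obtain ⟨y, hy, hyx, hne⟩ := hmax
    have h0 := dim_eq_zero_of_lt_one ((dim_lt hyx hne).trans_le h1)
    refine absurd (hcodim y hy fun z hz hzy => ?_) (by rw [h0]; decide)
    by_contra hne'
    exact absurd ((dim_lt hzy hne').trans_eq h0) (not_lt.2 ringKrullDim_nonneg_of_nontrivial)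

/-- The divisorial part of a closed subscheme. -/
theorem exists_sum (𝓩 : X.IdealSheafData) (𝓓 : I → X.IdealSheafData)
    (hD : ∀ i, BlowUp.IsEffCartierIdeal (𝓓 i)) (hDint : ∀ i, IsIntegral (𝓓 i).subscheme)
    (Z' : Set X)
    (hcodim : ∀ z ∈ Z', (∀ y ∈ Z', y ⤳ z → y = z) → (2 : WithBot ℕ∞) ≤ ringKrullDim (X.presheaf.stalk z))
    (hcover : (𝓩.support : Set X) ⊆ Z' ∪ ⋃ i, ((𝓓 i).support : Set X)) :
    ∃ a : I →₀ ℕ, 𝓩 ≤ a.prod (fun i n => 𝓓 i ^ n) ∧
      ∃ U : X.Opens, (a.prod (fun i n => 𝓓 i ^ n)).comap U.ι = 𝓩.comap U.ι ∧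
        ∀ z ∈ (𝓩.support : Set X) \ (U : Set X), (2 : WithBot ℕ∞) ≤ ringKrullDim (X.presheaf.stalk z) := by
  classical
  have hgp : ∀ i, ∃ ξ : X, IsGenericPoint ξ ((𝓓 i).support : Set X) := fun i => by
    have := hDint i
    have h := (genericPoint_spec (𝓓 i).subscheme).image (𝓓 i).subschemeι.continuous
    rw [Set.image_univ, (𝓓 i).range_subschemeι, (𝓓 i).support.isClosed.closure_eq] at h
    exact ⟨_, h⟩
  choose ξ hξ using hgp
  have hdimξ : ∀ i, ringKrullDim (X.presheaf.stalk (ξ i)) = 1 := fun i =>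
    DivPts.ringKrullDim_stalk_eq_one (𝓓 i) (hD i) (hξ i).mem
      fun y hy h => (((hξ i).specializes hy).antisymm h).eq.symm
  have hclass : ∀ x ∈ (𝓩.support : Set X), ringKrullDim (X.presheaf.stalk x) ≤ 1 → ∃ i, ξ i = x := by
    intro x hx h1
    rcases hcover hx with h | h
    · exact absurd h1 (two_le_of_mem Z' hcodim h)
    · obtain ⟨i, hi⟩ := Set.mem_iUnion.1 h
      refine ⟨i, ?_⟩
      by_contra hne
      exact absurd ((dim_lt ((hξ i).specializes hi) hne).trans_le h1) (by rw [hdimξ i]; exact lt_irrefl _)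
  have hmaxξ : ∀ i, ∀ y ∈ (𝓩.support : Set X), y ⤳ ξ i → y = ξ i := by
    intro i y hy hyi
    by_contra hne
    have hlt := dim_lt hyi hne
    obtain ⟨j, hj⟩ := hclass y hy (hlt.le.trans (hdimξ i).le)
    rw [← hj, hdimξ j, hdimξ i] at hlt
    exact lt_irrefl _ hlt
  have hfin : {x : X | x ∈ (𝓩.support : Set X) ∧ ∃ i, ξ i = x}.Finite := by
    obtain ⟨S, hSf, hSc, hSi, hS⟩ :=
      NoetherianSpace.exists_finite_set_isClosed_irreducible 𝓩.support.isClosed
    refine (hSf.biUnion (t := fun t => {x : X | IsGenericPoint x t}) fun t _ => Set.Subsingleton.finite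
      fun x hx y hy => hx.eq hy).subset ?_
    rintro x ⟨hx, i, rfl⟩
    rw [hS] at hx
    obtain ⟨t, ht, hxt⟩ := hx
    have hg := (hSi t ht).isGenericPoint_genericPoint (hSc t ht)
    refine Set.mem_biUnion ht ?_
    have : (hSi t ht).genericPoint = ξ i := hmaxξ i _ (hS ▸ ⟨t, ht, hg.mem⟩) (hg.specializes hxt)
    exact this ▸ hg
  set S := hfin.toFinset with hSdef
  have hS : ∀ x, x ∈ S ↔ x ∈ (𝓩.support : Set X) ∧ ∃ i, ξ i = x := fun x => hfin.mem_toFinset
  have hSi : ∀ x : S, ∃ i, ξ i = x := fun x => ((hS x).1 x.2).2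
  choose idx hidx using hSi
  have hidx_inj : Function.Injective idx := fun a b h => Subtype.ext (by rw [← hidx a, ← hidx b, h])
  -- the multiplicity at each point
  have hmult : ∀ x : S, ∃ n : ℕ, ∀ (U : X.affineOpens) (hx : x.1 ∈ (U : X.Opens)),
      (𝓩.ideal U).map (X.presheaf.germ U.1 x.1 hx).hom =
        ((𝓓 (idx x)).ideal U).map (X.presheaf.germ U.1 x.1 hx).hom ^ n := by
    intro x
    have := hDint (idx x)
    have hgx : IsGenericPoint x.1 ((𝓓 (idx x)).support : Set X) := hidx x ▸ hξ (idx x)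
    obtain ⟨hdom, hdvr⟩ := DivPts.isDVR_stalk (𝓓 (idx x)) (hD _) hgx
    obtain ⟨U, hxU, f, hf0, hf⟩ := hD (idx x) x.1
    letI := (X.presheaf.germ U.1 x.1 hxU).hom.toAlgebra
    have : IsLocalization.AtPrime (X.presheaf.stalk x.1) (U.2.primeIdealOf ⟨x.1, hxU⟩).asIdeal :=
      U.2.isLocalization_stalk ⟨x.1, hxU⟩
    have := DivPts.isPrime_ideal (𝓓 (idx x)) U hxU hgx.mem
    have hmin := DivPts.mem_minimalPrimes_of_maximal (𝓓 (idx x)) U hxU hgx.mem
      fun y hy h => ((hgx.specializes hy).antisymm h).eq.symm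
    rw [Ideal.minimalPrimes_eq_subsingleton_self, Set.mem_singleton_iff] at hmin
    have hmax : ((𝓓 (idx x)).ideal U).map (X.presheaf.germ U.1 x.1 hxU).hom =
        IsLocalRing.maximalIdeal (X.presheaf.stalk x.1) := by
      rw [← hmin]
      exact IsLocalization.AtPrime.map_eq_maximalIdeal _ _
    set J := (𝓩.ideal U).map (X.presheaf.germ U.1 x.1 hxU).hom with hJ
    have hJ0 : J ≠ ⊥ := by
      intro h0
      have hker : 𝓩.ideal U ≤ RingHom.ker (X.presheaf.germ U.1 x.1 hxU).hom := fun g hg => by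
        rw [RingHom.mem_ker, ← Ideal.mem_bot, ← h0]
        exact Ideal.mem_map_of_mem _ hg
      have : (RingHom.ker (X.presheaf.germ U.1 x.1 hxU).hom).IsPrime := RingHom.ker_isPrime _
      obtain ⟨y, hy, hyq⟩ := AssPts.exists_point U.2 (RingHom.ker (X.presheaf.germ U.1 x.1 hxU).hom)
      have hle : RingHom.ker (X.presheaf.germ U.1 x.1 hxU).hom ≤ (U.2.primeIdealOf ⟨x.1, hxU⟩).asIdeal := by
        intro g hg
        by_contra hgp
        exact (IsLocalization.map_units (M := (U.2.primeIdealOf ⟨x.1, hxU⟩).asIdeal.primeCompl)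
          (X.presheaf.stalk x.1) ⟨g, hgp⟩).ne_zero hg
      have hyx : y = x.1 := hidx x ▸ hmaxξ (idx x) y
        ((DivPts.mem_support_iff_le_prime 𝓩 U hy).2 (hyq ▸ hker))
        (hidx x ▸ (AssPts.specializes_iff U.2 x.1 hxU hy).2 (hyq ▸ hle))
      subst hyx
      have hf' : f ∈ RingHom.ker (X.presheaf.germ U.1 x.1 hxU).hom := by
        rw [← hyq, hmin, hf]; exact Ideal.mem_span_singleton_self f
      exact nonZeroDivisors.ne_zero (DivPts.germ_mem_nonZeroDivisors U.2 hxU hf0) hf'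
    obtain ⟨ϖ, hϖ⟩ := IsDiscreteValuationRing.exists_irreducible (X.presheaf.stalk x.1)
    obtain ⟨n, hn⟩ := IsDiscreteValuationRing.ideal_eq_span_pow_irreducible hJ0 hϖ
    refine ⟨n, fun V hxV => ?_⟩
    rw [map_germ_eq 𝓩 V U hxV hxU, map_germ_eq (𝓓 (idx x)) V U hxV hxU, ← hJ, hn, hmax,
      hϖ.maximalIdeal_eq, Ideal.span_singleton_pow]
  choose m hm using hmult
  let a : I →₀ ℕ := ∑ x : S, Finsupp.single (idx x) (m x)
  have ha : ∀ V : X.affineOpens, (a.prod fun i n => 𝓓 i ^ n).ideal V = ∏ x : S, (𝓓 (idx x)).ideal V ^ m x := by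
    intro V
    have h1 : (a.prod fun i n => 𝓓 i ^ n) = ∏ x : S, 𝓓 (idx x) ^ m x := by
      rw [← Finsupp.prod_finsetSum_index (fun i => pow_zero _) (fun i b₁ b₂ => pow_add _ b₁ b₂)]
      exact Finset.prod_congr rfl fun x _ => Finsupp.prod_single_index (pow_zero _)
    let φ : X.IdealSheafData →* Ideal Γ(X, V.1) :=
      { toFun := fun J => J.ideal V, map_one' := (Ideal.one_eq_top (R := Γ(X, V.1))).symm,
        map_mul' := fun J K => rfl }
    rw [h1]
    exact (map_prod φ _ _).trans (Finset.prod_congr rfl fun x _ => map_pow φ _ _)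
  have hle : 𝓩 ≤ a.prod fun i n => 𝓓 i ^ n := by
    intro V
    rw [V.2.ideal_le_iff]
    intro x hxV
    rw [ha, Ideal.map_le_iff_le_comap]
    intro g hg
    rw [Ideal.mem_comap, ← Ideal.mapHom_apply, map_prod]
    simp only [Ideal.mapHom_apply, Ideal.map_pow]
    set γ := (X.presheaf.germ V.1 x hxV).hom with hγ
    letI := γ.toAlgebra
    have : IsLocalization.AtPrime (X.presheaf.stalk x) (V.2.primeIdealOf ⟨x, hxV⟩).asIdeal :=
      V.2.isLocalization_stalk ⟨x, hxV⟩
    let T := Finset.univ.filter fun y : S => x ∈ (𝓓 (idx y)).support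
    rw [← Finset.prod_subset (s₁ := T) (Finset.subset_univ _) fun y _ hy => by
      have hy' : x ∉ (𝓓 (idx y)).support := fun h => hy (Finset.mem_filter.2 ⟨Finset.mem_univ _, h⟩)
      rw [DivPts.mem_support_iff_le_prime _ V hxV] at hy'
      obtain ⟨b, hb, hb'⟩ := SetLike.not_le_iff_exists.1 hy'
      rw [Ideal.eq_top_of_isUnit_mem _ (Ideal.mem_map_of_mem γ hb)
        (IsLocalization.map_units (M := (V.2.primeIdealOf ⟨x, hxV⟩).asIdeal.primeCompl)
          (X.presheaf.stalk x) ⟨b, hb'⟩), ← Ideal.one_eq_top, one_pow]]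
    have hpr : ∀ y ∈ T, ((𝓓 (idx y)).ideal V).IsPrime ∧
        Disjoint ((V.2.primeIdealOf ⟨x, hxV⟩).asIdeal.primeCompl : Set Γ(X, V.1))
          ((𝓓 (idx y)).ideal V : Set Γ(X, V.1)) := fun y hy => by
      have := hDint (idx y)
      refine ⟨DivPts.isPrime_ideal _ V hxV (Finset.mem_filter.1 hy).2, Set.disjoint_left.2 fun c hc hc' => hc ?_⟩
      exact (DivPts.mem_support_iff_le_prime _ V hxV).1 (Finset.mem_filter.1 hy).2 hc'
    refine mem_prod_pow (fun y : S => ((𝓓 (idx y)).ideal V).map γ) m T (fun y hy => ?_) (fun y hy => ?_)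
      (fun y hy z hz hyz hle => ?_) (γ g) fun y hy => ?_
    · exact IsLocalization.isPrime_of_isPrime_disjoint _ (X.presheaf.stalk x) _ (hpr y hy).1 (hpr y hy).2
    · obtain ⟨W, hxW, f, hf0, hf⟩ := hD (idx y) x
      refine ⟨_, DivPts.germ_mem_nonZeroDivisors W.2 hxW hf0, ?_⟩
      rw [hγ, map_germ_eq _ V W hxV hxW, hf, Ideal.map_span, Set.image_singleton]
    · have h' : (𝓓 (idx y)).ideal V ≤ (𝓓 (idx z)).ideal V := by
        refine Ideal.le_comap_map.trans ((Ideal.comap_mono hle).trans ?_)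
        exact (IsLocalization.comap_map_of_isPrime_disjoint (V.2.primeIdealOf ⟨x, hxV⟩).asIdeal.primeCompl
          (X.presheaf.stalk x) (hpr z hz).1 (hpr z hz).2).le
      have hzV : z.1 ∈ (V : X.Opens) := by
        rw [← hidx z]
        exact ((hξ (idx z)).specializes (Finset.mem_filter.1 hz).2).mem_open V.1.isOpen hxV
      have hzy : z.1 ∈ (𝓓 (idx y)).support := by
        rw [DivPts.mem_support_iff_le_prime _ V hzV]
        refine h'.trans ((DivPts.mem_support_iff_le_prime _ V hzV).1 ?_)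
        exact hidx z ▸ (hξ (idx z)).mem
      refine hyz (Subtype.ext ?_)
      have := hmaxξ (idx z) (ξ (idx y)) (hidx y ▸ ((hS y.1).1 y.2).1)
        ((hξ (idx y)).specializes (hidx z ▸ hzy))
      rwa [hidx y, hidx z] at this
    · have hyx : y.1 ⤳ x := hidx y ▸ (hξ (idx y)).specializes (Finset.mem_filter.1 hy).2
      have hyV : y.1 ∈ (V : X.Opens) := hyx.mem_open V.1.isOpen hxV
      letI := (X.presheaf.germ V.1 y.1 hyV).hom.toAlgebra
      have : IsLocalization.AtPrime (X.presheaf.stalk y.1) (V.2.primeIdealOf ⟨y.1, hyV⟩).asIdeal :=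
        V.2.isLocalization_stalk ⟨y.1, hyV⟩
      have hg' : algebraMap Γ(X, V.1) (X.presheaf.stalk y.1) g ∈
          ((𝓓 (idx y)).ideal V ^ m y).map (algebraMap Γ(X, V.1) (X.presheaf.stalk y.1)) := by
        rw [Ideal.map_pow]
        exact (hm y V hyV).le (Ideal.mem_map_of_mem _ hg)
      obtain ⟨t, ht, htg⟩ := (IsLocalization.algebraMap_mem_map_algebraMap_iff
        (V.2.primeIdealOf ⟨y.1, hyV⟩).asIdeal.primeCompl (X.presheaf.stalk y.1) _ g).1 hg'
      refine ⟨γ t, fun h => ht ?_, ?_⟩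
      · have htP : t ∈ (𝓓 (idx y)).ideal V := by
          have := IsLocalization.comap_map_of_isPrime_disjoint (V.2.primeIdealOf ⟨x, hxV⟩).asIdeal.primeCompl
            (X.presheaf.stalk x) (hpr y hy).1 (hpr y hy).2
          exact this.le h
        exact (DivPts.mem_support_iff_le_prime _ V hyV).1 (hidx y ▸ (hξ (idx y)).mem) htP
      · rw [← map_mul, ← Ideal.map_pow]
        exact Ideal.mem_map_of_mem _ htg
  refine ⟨a, hle, ⨆ V : {V : X.affineOpens // (a.prod fun i n => 𝓓 i ^ n).ideal V = 𝓩.ideal V}, V.1.1,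
    ?_, ?_⟩
  · refine Scheme.IdealSheafData.ext (funext fun W => ?_)
    rw [Scheme.IdealSheafData.ideal_comap_of_isOpenImmersion, Scheme.IdealSheafData.ideal_comap_of_isOpenImmersion]
    congr 1
    refine (IsAffineOpen.ideal_ext_iff (W.2.image_of_isOpenImmersion _)).2 fun x hx => ?_
    obtain ⟨⟨V, hV⟩, hxV⟩ := Opens.mem_iSup.1 ((Scheme.Hom.image_le_opensRange _ _).trans_eq
      (Scheme.Opens.opensRange_ι _) hx)
    rw [map_germ_eq _ ⟨_, W.2.image_of_isOpenImmersion _⟩ V hx hxV, hV,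
      ← map_germ_eq _ ⟨_, W.2.image_of_isOpenImmersion _⟩ V hx hxV]
  · rintro z ⟨hz, hzU⟩
    by_contra h2
    have h1 : ringKrullDim (X.presheaf.stalk z) ≤ 1 := le_one_of_not_two_le h2
    obtain ⟨i, hi⟩ := hclass z hz h1
    obtain ⟨x, rfl⟩ : ∃ x : S, x.1 = z := ⟨⟨z, (hS z).2 ⟨hz, i, hi⟩⟩, rfl⟩
    refine hzU (Opens.mem_iSup.2 ?_)
    obtain ⟨_, ⟨V, hV, rfl⟩, hxV, -⟩ :=
      X.isBasis_affineOpens.exists_subset_of_mem_open (Set.mem_univ x.1) isOpen_univ
    let V' : X.affineOpens := ⟨V, hV⟩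
    have : IsNoetherianRing Γ(X, V) := IsLocallyNoetherian.component_noetherian V'
    obtain ⟨G, hG⟩ := IsNoetherian.noetherian ((a.prod fun i n => 𝓓 i ^ n).ideal V')
    letI := (X.presheaf.germ V x.1 hxV).hom.toAlgebra
    have : IsLocalization.AtPrime (X.presheaf.stalk x.1) (hV.primeIdealOf ⟨x.1, hxV⟩).asIdeal :=
      hV.isLocalization_stalk ⟨x.1, hxV⟩
    have hs : ∀ g ∈ G, ∃ t, t ∈ (hV.primeIdealOf ⟨x.1, hxV⟩).asIdeal.primeCompl ∧ t * g ∈ 𝓩.ideal V' := by
      intro g hg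
      have hgJ : g ∈ ∏ y : S, (𝓓 (idx y)).ideal V' ^ m y := by
        rw [← ha V', ← hG]; exact Submodule.subset_span hg
      have hgP : g ∈ (𝓓 (idx x)).ideal V' ^ m x :=
        Ideal.le_of_dvd (Finset.dvd_prod_of_mem _ (Finset.mem_univ x)) hgJ
      have : algebraMap Γ(X, V) (X.presheaf.stalk x.1) g ∈
          (𝓩.ideal V').map (algebraMap Γ(X, V) (X.presheaf.stalk x.1)) := by
        refine (hm x V' hxV).ge ?_
        rw [← Ideal.map_pow]
        exact Ideal.mem_map_of_mem _ hgP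
      exact (IsLocalization.algebraMap_mem_map_algebraMap_iff
        (hV.primeIdealOf ⟨x.1, hxV⟩).asIdeal.primeCompl (X.presheaf.stalk x.1) _ g).1 this
    choose! t ht htg using hs
    have htp : ∏ g ∈ G, t g ∈ (hV.primeIdealOf ⟨x.1, hxV⟩).asIdeal.primeCompl :=
      Submonoid.prod_mem _ fun g hg => ht g hg
    refine ⟨⟨X.affineBasicOpen (U := V') (∏ g ∈ G, t g), ?_⟩,
      (mem_basicOpen_iff_notMem_prime hV x.1 hxV _).2 htp⟩
    refine le_antisymm ?_ (hle _)
    rw [← Scheme.IdealSheafData.map_ideal_basicOpen _ V', ← Scheme.IdealSheafData.map_ideal_basicOpen 𝓩 V',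
      ← hG]
    refine Ideal.map_le_iff_le_comap.2 (Submodule.span_le.2 fun g hg => ?_)
    rw [SetLike.mem_coe, Ideal.mem_comap]
    have hu : IsUnit ((X.presheaf.map (homOfLE (X.basicOpen_le (∏ g ∈ G, t g))).op).hom (∏ g ∈ G, t g)) :=
      RingedSpace.isUnit_res_basicOpen _ _
    refine (Ideal.unit_mul_mem_iff_mem _ hu).1 ?_
    rw [← map_mul]
    refine Ideal.mem_map_of_mem _ ?_
    rw [← Finset.mul_prod_erase G t hg, mul_right_comm]
    exact Ideal.mul_mem_right _ _ (htg g hg)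

end Groth.Agent.CartierSum
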